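import Cfsg.Agent.H236.LocOrth
import Cfsg.Agent.H238.Base
import Cfsg.Agent.H996.AllSplit
import Cfsg.Agent.AutOrth.Main

/-!
# S3046, piece (X): orthogonal groups in cross characteristic (helper331)

`p` odd, `K = PΩ(V)` of characteristic `r ≠ p`, `dim V ≥ 7`, the Sylow `p`-subgroups of `K` are not abelian: `K` is not of
local characteristic `p`.

* `exists_comm` : a nonabelian `p`-group has `x`, `y` such that `[x, y]` has order `p` and commutes with `x` and `y`;
* `exists_comm_of_sylow` : the same in a group `G` with a surjective homomorphism to a group with nonabelian Sylow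
  `p`-subgroups;
* `ws_of_loc` (helper236) : `WS r` for the centralizers of the elements of order `p`;
* `no_orth`, `not_loc_omegaOdd`, `not_loc_omegaPlus`, `not_loc_omegaMinus`.
-/

set_option autoImplicit false

namespace Cfsg.Agent.H331.LP

open Subgroup Cfsg Module Cfsg.Agent.H236 Cfsg.Agent.BpLin Cfsg.Agent.BpCl QuadraticMap
open Cfsg.Agent.H238 (Loc)
open Cfsg.Agent.LieClassical.OrthCore Cfsg.Agent.LieClassical.OrthTrans

universe u v w

/-! ### Commutators of order `p` -/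

/-- A nonabelian `p`-group. -/
theorem exists_comm {P : Type*} [Group P] [Finite P] {p : ℕ} [hp : Fact p.Prime] (hP : IsPGroup p P)
    (hna : ∃ a b : P, a * b ≠ b * a) :
    ∃ x y : P, orderOf (x * y * x⁻¹ * y⁻¹) = p ∧ x * (x * y * x⁻¹ * y⁻¹) = (x * y * x⁻¹ * y⁻¹) * x ∧
      y * (x * y * x⁻¹ * y⁻¹) = (x * y * x⁻¹ * y⁻¹) * y := by
  obtain ⟨a, b, hab⟩ := hna
  have hnt : Nontrivial (P ⧸ center P) := by
    refine ⟨⟨QuotientGroup.mk a, 1, fun h => hab ?_⟩⟩
    exact (mem_center_iff.1 ((QuotientGroup.eq_one_iff a).1 h) b).symm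
  have h1 : Nontrivial (center (P ⧸ center P)) := (hP.to_quotient (center P)).center_nontrivial
  obtain ⟨⟨z, hz⟩, hz1⟩ := exists_ne (1 : center (P ⧸ center P))
  obtain ⟨x, rfl⟩ := QuotientGroup.mk_surjective z
  have hx : x ∉ center P := fun h => hz1 (Subtype.ext ((QuotientGroup.eq_one_iff x).2 h))
  have hc : ∀ y, x * y * x⁻¹ * y⁻¹ ∈ center P := by
    intro y
    rw [← QuotientGroup.eq_one_iff, QuotientGroup.mk_mul, QuotientGroup.mk_mul, QuotientGroup.mk_mul,
      QuotientGroup.mk_inv, QuotientGroup.mk_inv, ← mem_center_iff.1 hz (QuotientGroup.mk y)]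
    group
  obtain ⟨y, hy⟩ : ∃ y, y * x ≠ x * y := by
    by_contra hcon
    push Not at hcon
    exact hx (mem_center_iff.2 hcon)
  set c := x * y * x⁻¹ * y⁻¹ with hcdef
  have hcc : ∀ g, g * c = c * g := mem_center_iff.1 (hc y)
  have hc1 : c ≠ 1 := by
    intro h
    rw [hcdef, mul_inv_eq_one, mul_inv_eq_iff_eq_mul] at h
    exact hy h.symm
  have hpow : ∀ n : ℕ, x * y ^ n * x⁻¹ * (y ^ n)⁻¹ = c ^ n := by
    intro n
    induction n with
    | zero => simp
    | succ n ih =>
      have h2 : x * y ^ n * x⁻¹ = c ^ n * y ^ n := mul_inv_eq_iff_eq_mul.1 ih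
      have h3 : x * y * x⁻¹ = c * y := by rw [hcdef]; group
      rw [mul_inv_eq_iff_eq_mul]
      calc x * y ^ (n + 1) * x⁻¹ = (x * y ^ n * x⁻¹) * (x * y * x⁻¹) := by rw [pow_succ]; group
        _ = c ^ n * (y ^ n * c) * y := by rw [h2, h3]; group
        _ = c ^ n * c * (y ^ n * y) := by rw [hcc]; group
        _ = c ^ (n + 1) * y ^ (n + 1) := by rw [pow_succ, pow_succ]
  obtain ⟨k, hk⟩ := (IsPGroup.iff_orderOf.1 hP) c
  have hk0 : k ≠ 0 := by
    rintro rfl
    rw [pow_zero, orderOf_eq_one_iff] at hk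
    exact hc1 hk
  obtain ⟨j, rfl⟩ := Nat.exists_eq_succ_of_ne_zero hk0
  refine ⟨x, y ^ p ^ j, ?_, ?_, ?_⟩
  · rw [hpow, orderOf_pow_of_dvd (pow_ne_zero _ hp.out.ne_zero) (by rw [hk]; exact pow_dvd_pow p (by omega)), hk,
      Nat.pow_div (by omega) hp.out.pos]
    simp
  · rw [hpow]
    exact ((Commute.pow_right (show Commute x c from hcc x) _)).eq
  · rw [hpow]
    exact ((Commute.pow_right (show Commute (y ^ p ^ j) c from hcc _) _)).eq

/-- The same in a group mapping onto a group with nonabelian Sylow `p`-subgroups. -/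
theorem exists_comm_of_sylow {G K : Type*} [Group G] [Finite G] [Group K] {p : ℕ} [hp : Fact p.Prime] (f : G →* K)
    (hf : Function.Surjective f) (hna : ∀ S : Sylow p K, ¬ IsMulCommutative (S : Subgroup K)) :
    ∃ x y : G, orderOf (x * y * x⁻¹ * y⁻¹) = p ∧ x * (x * y * x⁻¹ * y⁻¹) = (x * y * x⁻¹ * y⁻¹) * x ∧
      y * (x * y * x⁻¹ * y⁻¹) = (x * y * x⁻¹ * y⁻¹) * y := by
  obtain ⟨P⟩ : Nonempty (Sylow p G) := inferInstance
  obtain ⟨x, y, h1, h2, h3⟩ := exists_comm (P := P) P.isPGroup' (by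
    by_contra hcon
    push Not at hcon
    refine hna (P.mapSurjective hf) ⟨⟨?_⟩⟩
    rintro ⟨_, a, ha, rfl⟩ ⟨_, b, hb, rfl⟩
    apply Subtype.ext
    have h4 : a * b = b * a := congrArg Subtype.val (hcon ⟨a, ha⟩ ⟨b, hb⟩)
    change f a * f b = f b * f a
    rw [← map_mul, h4, map_mul])
  exact ⟨x, y, (Subgroup.orderOf_coe (x * y * x⁻¹ * y⁻¹)).trans h1, congrArg Subtype.val h2, congrArg Subtype.val h3⟩

/-! ### Local characteristic -/

theorem ws_of_loc {K : Type u} [Group K] [Finite K] [IsSimpleGroup K] {p r : ℕ} [Fact p.Prime] [hr : Fact r.Prime]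
    (hpr : p ≠ r) (hK : IsLieTypeChar r K) (hl : Loc p K) {K' : Type v} [Group K'] (e : K ≃* K') {x : K'}
    (hx : orderOf x = p) : WS r ↥(centralizer ({x} : Set K')) := by
  have h1 : orderOf (e.symm x) = p := by
    rw [← hx]
    exact orderOf_injective e.symm.toMonoidHom e.symm.injective x
  have h2 := (rs_centralizer hpr (H996.AllSplit.hasSplit_of_lie hr.out hK) (e.symm x)
    (by rw [← h1, pow_orderOf_eq_one]) (hl _ h1)).ws
  have hfin : Finite K' := Finite.of_equiv K e.toEquiv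
  have e1 : (centralizer ({e.symm x} : Set K)).map e.toMonoidHom = centralizer ({x} : Set K') := by
    ext y
    rw [Subgroup.mem_map]
    constructor
    · rintro ⟨w, hw, rfl⟩
      rw [mem_centralizer_singleton_iff] at hw ⊢
      have := congrArg e hw
      simpa using this
    · intro hy
      refine ⟨e.symm y, ?_, by simp⟩
      rw [mem_centralizer_singleton_iff] at hy ⊢
      rw [← map_mul, hy, map_mul]
  rw [← e1]
  exact h2.congr ((centralizer ({e.symm x} : Set K)).equivMapOfInjective _ e.injective).symm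

/-! ### The orthogonal groups -/

/-- **`PΩ(V)`, `dim V ≥ 7`, cross characteristic.** -/
theorem no_orth {K : Type u} [Group K] [Finite K] [IsSimpleGroup K] {p r : ℕ} [hp : Fact p.Prime] [hr : Fact r.Prime]
    (hp2 : p ≠ 2) (hpr : p ≠ r) (hK : IsLieTypeChar r K) {F : Type v} {V : Type w} [Field F] [Finite F]
    [AddCommGroup V] [Module F V] [Module.Finite F V] [CharP F r] {Q : QuadraticForm F V} (hG : Good Q)
    (hd : 7 ≤ finrank F V) (e : K ≃* ↥(E Q) ⧸ Subgroup.center ↥(E Q))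
    (hna : ∀ S : Sylow p K, ¬ IsMulCommutative (S : Subgroup K)) (hl : Loc p K) : False := by
  have hfin : Finite ↥(E Q) := finite_subgroup _
  have hpF : (p : F) ≠ 0 := by
    intro h
    exact hpr ((Nat.prime_dvd_prime_iff_eq hr.out hp.out).1 ((CharP.cast_eq_zero_iff F r p).1 h)).symm
  let π : ↥(E Q) →* ↥(E Q) ⧸ Subgroup.center ↥(E Q) := QuotientGroup.mk' (Subgroup.center ↥(E Q))
  have hπ : Function.Surjective π := QuotientGroup.mk'_surjective _
  obtain ⟨X, Y, hZo, hXZ, hYZ⟩ := exists_comm_of_sylow (p := p) (e.symm.toMonoidHom.comp π)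
    (e.symm.surjective.comp hπ) hna
  set Z : ↥(E Q) := X * Y * X⁻¹ * Y⁻¹ with hZ
  have hZp : Z ^ p = 1 := by rw [← hZo, pow_orderOf_eq_one]
  have hZ1 : Z ≠ 1 := by
    intro h
    rw [h, orderOf_one] at hZo
    exact hp.out.one_lt.ne hZo
  have hO : ∀ (W : ↥(E Q)) (v : V), Q ((W : V ≃ₗ[F] V) v) = Q v := fun W v => E_le_O W.2 v
  have hZc : Z ∉ Subgroup.center ↥(E Q) := by
    intro hc
    obtain ⟨a, ha⟩ := ClassicalGeometry.OrthAut1.center_scalar hG hc
    obtain ⟨w, hw, -⟩ := LocOrth.exists_pair hG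
    have h1 : a * a = 1 := by
      have h2 := hO Z w
      rw [ha, QuadraticMap.map_smul, smul_eq_mul] at h2
      exact mul_right_cancel₀ hw (by rw [h2, one_mul])
    have hw0 : w ≠ 0 := fun h => hw (by rw [h, QuadraticMap.map_zero])
    have hpw : ∀ n : ℕ, ((Z ^ n : ↥(E Q)) : V ≃ₗ[F] V) w = a ^ n • w := by
      intro n
      induction n with
      | zero => rw [pow_zero, pow_zero, one_smul]; rfl
      | succ n ih =>
        rw [pow_succ', pow_succ', Subgroup.coe_mul, LinearEquiv.mul_apply, ih, map_smul, ha, smul_smul,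
          mul_comm]
    have h2 : a ^ p = 1 := by
      have h3 := hpw p
      rw [hZp] at h3
      have h4 : (a ^ p - 1) • w = 0 := by
        rw [sub_smul, ← h3, one_smul]
        exact sub_self w
      exact sub_eq_zero.1 ((smul_eq_zero.1 h4).resolve_right hw0)
    have h3 : a = 1 := by
      obtain ⟨k, hk⟩ := hp.out.odd_of_ne_two hp2
      rw [hk, pow_succ, pow_mul, pow_two, h1, one_pow, one_mul] at h2
      exact h2
    apply hZ1
    apply Subtype.ext
    apply LinearEquiv.ext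
    intro v
    rw [ha, h3, one_smul]
    rfl
  have hπZ : orderOf (π Z) = p := by
    apply orderOf_eq_prime
    · rw [← map_pow, hZp, map_one]
    · intro h
      exact hZc ((QuotientGroup.eq_one_iff _).1 h)
  have h3 : WS r ↥(centralizer ({Z} : Set ↥(E Q))) :=
    ws_lift (π := π) (by rw [QuotientGroup.ker_mk']) (ws_of_loc hpr hK hl e hπZ)
  have h4 := orth_odd (r := r) hp.out hp2 hpF hG.nondeg (X := (X : V ≃ₗ[F] V)) (Y := (Y : V ≃ₗ[F] V))
    (g := (Z : V ≃ₗ[F] V)) (hO X) (hO Y) (hO Z) (by rw [hZ]; rfl)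
    (fun v => LinearEquiv.congr_fun (congrArg Subtype.val hXZ) v)
    (fun v => LinearEquiv.congr_fun (congrArg Subtype.val hYZ) v)
    (by rw [← SubgroupClass.coe_pow, hZp]; rfl)
    (fun h => hZ1 (Subtype.ext h)) (ws_E hG h3)
  obtain ⟨z, hz, hnz⟩ := LocOrth.orth_three (r := r) hG h4.2.1 hd
  exact hnz (ws_of_loc hpr hK hl e (hz.trans h4.1.symm))

section Families

open Cfsg.Agent.ClassicalGeometry.OrthSemi Cfsg.Agent.ClassicalGeometry.OrthSemiForms
  Cfsg.Agent.LieClassical.QuadForms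

variable {K : Type u} [Group K] [Finite K] [IsSimpleGroup K] {p r : ℕ} [hp : Fact p.Prime] [hr : Fact r.Prime]

/-- **`PΩ_{2m+1}(q)`, cross characteristic.** -/
theorem not_loc_omegaOdd (hp2 : p ≠ 2) (hpr : p ≠ r) (hK : IsPOmegaOddChar r K)
    (hna : ∀ S : Sylow p K, ¬ IsMulCommutative (S : Subgroup K)) : ¬ Loc p K := by
  intro hl
  have hK' := hK
  obtain ⟨F, i1, i2, hch, m, hm, hodd, ⟨e⟩⟩ := hK
  have h2 : (2 : F) ≠ 0 := by
    intro h
    obtain ⟨k, hk⟩ := hodd
    have h1 := Nat.cast_card_eq_zero F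
    rw [hk] at h1
    push_cast at h1
    rw [h, zero_mul, zero_add] at h1
    exact one_ne_zero h1
  have hG : Good (oddForm m F) := AutOrth.Main.good_odd (by omega) h2
  have e' : K ≃* POmega F ⇑(oddForm m F) := by
    rw [coe_oddForm]
    exact e
  refine no_orth hp2 hpr (Or.inr (Or.inr (Or.inr (Or.inl hK')))) hG ?_ (e'.trans (pomegaEquiv hG)) hna hl
  rw [Module.finrank_fintype_fun_eq_card]
  simp
  omega

/-- **`PΩ⁺_{2m}(q)`, cross characteristic.** -/
theorem not_loc_omegaPlus (hp2 : p ≠ 2) (hpr : p ≠ r) (hK : IsPOmegaPlusChar r K)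
    (hna : ∀ S : Sylow p K, ¬ IsMulCommutative (S : Subgroup K)) : ¬ Loc p K := by
  intro hl
  have hK' := hK
  obtain ⟨F, i1, i2, hch, m, hm, ⟨e⟩⟩ := hK
  have hG : Good (plusForm m F) := AutOrth.Main.good_plus (by omega)
  have e' : K ≃* POmega F ⇑(plusForm m F) := by
    rw [coe_plusForm]
    exact e
  refine no_orth hp2 hpr (Or.inr (Or.inr (Or.inr (Or.inr (Or.inl hK'))))) hG ?_ (e'.trans (pomegaEquiv hG)) hna hl
  rw [Module.finrank_fintype_fun_eq_card]
  simp
  omega

/-- **`PΩ⁻_{2m}(q)`, cross characteristic.** -/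
theorem not_loc_omegaMinus (hp2 : p ≠ 2) (hpr : p ≠ r) (hK : IsPOmegaMinusChar r K)
    (hna : ∀ S : Sylow p K, ¬ IsMulCommutative (S : Subgroup K)) : ¬ Loc p K := by
  intro hl
  have hK' := hK
  obtain ⟨F, i1, i2, hch, m, a, b, hm, hab, ⟨e⟩⟩ := hK
  have hG : Good (minusForm (m - 1) F a b) := AutOrth.Main.good_minus (by omega) hab
  have e' : K ≃* POmega F ⇑(minusForm (m - 1) F a b) := by
    rw [coe_minusForm]
    exact e
  refine no_orth hp2 hpr (Or.inr (Or.inr (Or.inr (Or.inr (Or.inr (Or.inl hK')))))) hG ?_ (e'.trans (pomegaEquiv hG))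
    hna hl
  rw [Module.finrank_fintype_fun_eq_card]
  simp
  omega

end Families

end Cfsg.Agent.H331.LP
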